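import Groth.Agent.H7LftDesc.Scheme
import Groth.Agent.H19Grp.OrbitUnique

/-!
# A group scheme locally of finite type near one point is locally of finite type
-/

set_option autoImplicit false
set_option linter.style.haveILetI false
set_option backward.isDefEq.respectTransparency false

universe u

open CategoryTheory CategoryTheory.Limits MonoidalCategory CartesianMonoidalCategory MonObj GrpObj
  AlgebraicGeometry TopologicalSpace

namespace Groth.Agent.H7LftDesc

theorem locallyOfFiniteType_grp {A : Type u} [CommRing A] [IsArtinianRing A] [IsLocalRing A]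
    (G : Over (Spec (CommRingCat.of A))) [GrpObj G] (W : G.left.Opens) (hW : (W : Set G.left).Nonempty)
    [LocallyOfFiniteType (W.ι ≫ G.hom)] : LocallyOfFiniteType G.hom := by
  obtain ⟨x, hx⟩ := hW
  have h : ∀ y : G.left, ∃ U : G.left.Opens, y ∈ U ∧ LocallyOfFiniteType (U.ι ≫ G.hom) := by
    intro y
    obtain ⟨z, hz1, hz2⟩ := Scheme.Pullback.exists_preimage_pullback (f := G.hom) (g := G.hom) x y
      (Subsingleton.elim (α := PrimeSpectrum A) _ _)
    let σ : G ⊗ G ⟶ G ⊗ G := lift (fst G G) ((fst G G)⁻¹ * snd G G)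
    let τ : G ⊗ G ⟶ G ⊗ G := H19Grp.transR (𝟙 G)
    haveI : IsIso τ.left := H19Grp.isIso_transR (𝟙 G)
    have h1 : σ ≫ τ ≫ fst G G = snd G G := by simp [σ, τ, H19Grp.transR, MonObj.comp_mul]
    have hτ : inv τ.left ≫ (snd G G).left = (snd G G).left := by
      rw [IsIso.inv_comp_eq, ← Over.comp_left]; simp [τ, H19Grp.transR]
    have sq : IsPullback (fst G G).left (snd G G).left G.hom G.hom := IsPullback.of_hasPullback G.hom G.hom
    let O : (G ⊗ G).left.Opens := (fst G G).left ⁻¹ᵁ W
    haveI : LocallyOfFiniteType (O.ι ≫ (snd G G).left) := MorphismProperty.of_isPullback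
      ((isPullback_morphismRestrict (fst G G).left W).paste_vert sq)
      (show LocallyOfFiniteType (W.ι ≫ G.hom) by infer_instance)
    haveI : LocallyOfFiniteType ((inv τ.left ⁻¹ᵁ O).ι ≫ (snd G G).left) := by
      rw [← hτ, ← morphismRestrict_ι_assoc]
      infer_instance
    obtain ⟨U, hU, hlft⟩ := lft_nhd_artinian sq (τ.left (σ.left z)) (inv τ.left ⁻¹ᵁ O) (by
      show (fst G G).left (inv τ.left (τ.left (σ.left z))) ∈ W
      rw [← Scheme.Hom.comp_apply τ.left, IsIso.hom_inv_id, ← Scheme.Hom.comp_apply, Category.id_comp,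
        ← Scheme.Hom.comp_apply, ← Over.comp_left, lift_fst]
      exact (show (fst G G).left z = x from hz1) ▸ hx)
    refine ⟨U, ?_, hlft⟩
    rw [← Scheme.Hom.comp_apply, ← Scheme.Hom.comp_apply, ← Over.comp_left, ← Over.comp_left, h1] at hU
    exact (show (snd G G).left z = y from hz2) ▸ hU
  choose U hU hP using h
  exact IsZariskiLocalAtSource.of_openCover (P := @LocallyOfFiniteType) (Scheme.openCoverOfIsOpenCover _ U
    (TopologicalSpace.IsOpenCover.mk (top_unique fun y _ => TopologicalSpace.Opens.mem_iSup.2 ⟨y, hU y⟩))) hP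

end Groth.Agent.H7LftDesc
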