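import Mathlib

/-!
# Finite type descends along an open cover of a base change over a field
-/

set_option autoImplicit false

universe u

open TensorProduct PrimeSpectrum

namespace Groth.Agent.H7LftDesc

variable {k B K : Type u} [Field k] [CommRing B] [CommRing K] [Algebra k B] [Algebra k K]

local notation "bK" => Algebra.TensorProduct.basis

theorem repr_map_val (C : Subalgebra k B) {ι : Type*} (e : Module.Basis ι k K) (c : C ⊗[k] K) (l : ι) :
    (bK B e).repr (Algebra.TensorProduct.map C.val (AlgHom.id k K) c) l = ((bK C e).repr c l : B) := by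
  induction c using TensorProduct.induction_on with
  | zero => simp
  | tmul a m => simp
  | add x y hx hy => simp [map_add, hx, hy]

theorem mem_range_map_val (C : Subalgebra k B) {ι : Type*} (e : Module.Basis ι k K) (z : B ⊗[k] K)
    (h : ∀ l, (bK B e).repr z l ∈ C) :
    z ∈ (Algebra.TensorProduct.map C.val (AlgHom.id k K)).range := by
  rw [← (bK B e).linearCombination_repr z, Finsupp.linearCombination_apply]
  refine Subalgebra.sum_mem _ fun l _ => ⟨(⟨_, h l⟩ : C) ⊗ₜ e l, ?_⟩
  simp [Algebra.smul_def, Algebra.TensorProduct.basis_apply]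

theorem exists_subalgebra_fg (G : Finset (B ⊗[k] K)) (b : B) :
    ∃ C : Subalgebra k B, C.FG ∧ b ∈ C ∧
      (G : Set (B ⊗[k] K)) ⊆ (Algebra.TensorProduct.map C.val (AlgHom.id k K)).range := by
  classical
  let e := Module.Free.chooseBasis k K
  let F : Finset B := insert b (G.biUnion fun z => ((bK B e).repr z).support.image ((bK B e).repr z))
  refine ⟨Algebra.adjoin k F, Subalgebra.fg_adjoin_finset F, Algebra.subset_adjoin (Finset.mem_insert_self _ _),
    fun z hz => mem_range_map_val _ e z fun l => ?_⟩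
  by_cases hl : (bK B e).repr z l = 0
  · rw [hl]; exact Subalgebra.zero_mem _
  · exact Algebra.subset_adjoin (Finset.mem_insert_of_mem (Finset.mem_biUnion.2
      ⟨z, hz, Finset.mem_image.2 ⟨l, Finsupp.mem_support_iff.2 hl, rfl⟩⟩))

/-- If `B ⊗ K` is generated up to powers of `s` by finitely many elements over `K` and `D(s)` covers
`D(b)`, then `B_b` is of finite type. -/
theorem finiteType_away_of_cover (s : B ⊗[k] K) (b : B) (G : Finset (B ⊗[k] K)) (hs : s ∈ G)
    (H : ∀ z : B ⊗[k] K, ∃ n : ℕ,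
      s ^ n * z ∈ Subring.closure (Set.range (Algebra.TensorProduct.includeRight : K →ₐ[k] B ⊗[k] K) ∪ G))
    (hsurj : ∀ q : PrimeSpectrum B, b ∉ q.asIdeal → ∃ P : PrimeSpectrum (B ⊗[k] K),
      s ∉ P.asIdeal ∧ comap (algebraMap B (B ⊗[k] K)) P = q) :
    Algebra.FiniteType k (Localization.Away b) := by
  classical
  obtain ⟨C, hC, hbC, hG⟩ := exists_subalgebra_fg G b
  set φ := Algebra.TensorProduct.map C.val (AlgHom.id k K) with hφ
  let e := Module.Free.chooseBasis k K
  have hcl : Subring.closure (Set.range (Algebra.TensorProduct.includeRight : K →ₐ[k] B ⊗[k] K) ∪ G) ≤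
      φ.range.toSubring := by
    rw [Subring.closure_le, Set.union_subset_iff]
    exact ⟨by rintro _ ⟨x, rfl⟩; exact ⟨1 ⊗ₜ x, by simp [hφ]⟩, hG⟩
  obtain ⟨s', hs'⟩ := hG hs
  replace hs' : φ s' = s := hs'
  -- the image of `D(s')`
  let O : Set (PrimeSpectrum C) := comap (algebraMap C (C ⊗[k] K)) '' basicOpen s'
  have hO : IsOpen O :=
    PrimeSpectrum.isOpenMap_comap_algebraMap_tensorProduct_of_field _ (basicOpen s').isOpen
  obtain ⟨I, hI⟩ := (PrimeSpectrum.isClosed_iff_zeroLocus_ideal _).1 hO.isClosed_compl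
  have hcomm : ∀ a : C, φ (algebraMap C (C ⊗[k] K) a) = algebraMap B (B ⊗[k] K) (a : B) := by
    intro a; simp [hφ, Algebra.TensorProduct.algebraMap_apply]
  have hb : b ∈ (I.map C.val).radical := by
    rw [Ideal.radical_eq_sInf, Ideal.mem_sInf]
    rintro q ⟨hIq, hq⟩
    by_contra hbq
    obtain ⟨P, hsP, hPq⟩ := hsurj ⟨q, hq⟩ hbq
    have hO' : comap C.val.toRingHom ⟨q, hq⟩ ∈ O := by
      refine ⟨comap φ.toRingHom P, ?_, ?_⟩
      · show s' ∉ P.asIdeal.comap φ.toRingHom
        rw [Ideal.mem_comap]; change φ s' ∉ _; rwa [hs']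
      · refine PrimeSpectrum.ext (Ideal.ext fun a => ?_)
        show φ (algebraMap C (C ⊗[k] K) a) ∈ P.asIdeal ↔ (a : B) ∈ q
        rw [hcomm, ← show (comap (algebraMap B (B ⊗[k] K)) P).asIdeal = q from congrArg PrimeSpectrum.asIdeal hPq]
        rfl
    exact (show comap C.val.toRingHom ⟨q, hq⟩ ∈ Oᶜ by
      rw [hI]; exact fun a ha => hIq (Ideal.mem_map_of_mem C.val ha)) hO'
  obtain ⟨N, hN⟩ := hb
  rw [Ideal.map, ← Ideal.submodule_span_eq, Submodule.mem_span_set'] at hN
  obtain ⟨r, f, g, hfg⟩ := hN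
  obtain ⟨F, hF⟩ := hC
  let F₃ : Finset B := F ∪ Finset.univ.image f
  let C₃ := Algebra.adjoin k (F₃ : Set B)
  have hCC₃ : C ≤ C₃ := by
    rw [← hF]; exact Algebra.adjoin_mono (by exact_mod_cast Finset.subset_union_left)
  have hf : ∀ i, f i ∈ C₃ := fun i => Algebra.subset_adjoin
    (Finset.mem_union_right _ (Finset.mem_image_of_mem f (Finset.mem_univ i)))
  have key : ∀ m : B, ∃ M : ℕ, b ^ M * m ∈ C₃ := by
    intro m
    let J : Ideal C :=
      { carrier := {a | (a : B) * m ∈ C}
        add_mem' := fun {x y} hx hy => by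
          show ((x + y : C) : B) * m ∈ C
          rw [Subalgebra.coe_add, add_mul]; exact C.add_mem hx hy
        zero_mem' := by simp
        smul_mem' := fun c x hx => by
          show ((c * x : C) : B) * m ∈ C
          rw [Subalgebra.coe_mul, mul_assoc]; exact C.mul_mem c.2 hx }
    let J₃ : Ideal C₃ :=
      { carrier := {a | (a : B) * m ∈ C₃}
        add_mem' := fun {x y} hx hy => by
          show ((x + y : C₃) : B) * m ∈ C₃
          rw [Subalgebra.coe_add, add_mul]; exact C₃.add_mem hx hy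
        zero_mem' := by simp
        smul_mem' := fun c x hx => by
          show ((c * x : C₃) : B) * m ∈ C₃
          rw [Subalgebra.coe_mul, mul_assoc]; exact C₃.mul_mem c.2 hx }
    have hIJ : ∀ x ∈ I, x ∈ J.radical := by
      intro x hx
      rw [Ideal.radical_eq_sInf, Ideal.mem_sInf]
      rintro p ⟨hJp, hp⟩
      by_contra hxp
      have hpO : (⟨p, hp⟩ : PrimeSpectrum C) ∈ O := by
        by_contra h
        have h' : (⟨p, hp⟩ : PrimeSpectrum C) ∈ Oᶜ := h
        rw [hI] at h'
        exact hxp (h' hx)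
      obtain ⟨P, hsP, hPp⟩ := hpO
      obtain ⟨n, hn⟩ := H (m ⊗ₜ 1)
      obtain ⟨c, hc⟩ := hcl hn
      replace hc : φ c = s ^ n * m ⊗ₜ 1 := hc
      have hc' : φ c = m • φ (s' ^ n) := by
        rw [hc, map_pow, hs', mul_comm, Algebra.smul_def, Algebra.TensorProduct.algebraMap_apply]
        rfl
      have hcoef : ∀ l, ((bK C e).repr (s' ^ n) l : B) * m ∈ C := by
        intro l
        have h := repr_map_val C e c l
        rw [← hφ, hc', map_smul, Finsupp.smul_apply, hφ, repr_map_val, smul_eq_mul, mul_comm] at h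
        rw [h]; exact Subtype.coe_prop _
      have hsn : s' ^ n ∈ P.asIdeal := by
        rw [← (bK C e).linearCombination_repr (s' ^ n), Finsupp.linearCombination_apply]
        refine Ideal.sum_mem _ fun l _ => ?_
        show (bK C e).repr (s' ^ n) l • _ ∈ P.asIdeal
        rw [Algebra.smul_def]
        refine Ideal.mul_mem_right _ _ ?_
        have h : (bK C e).repr (s' ^ n) l ∈ p := hJp (hcoef l)
        rw [← show (comap (algebraMap C (C ⊗[k] K)) P).asIdeal = p from congrArg PrimeSpectrum.asIdeal hPp] at h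
        exact h
      exact hsP (P.2.mem_of_pow_mem n hsn)
    have hbN : (⟨b ^ N, hCC₃ (C.pow_mem hbC N)⟩ : C₃) ∈ J₃.radical := by
      have hdec : (⟨b ^ N, hCC₃ (C.pow_mem hbC N)⟩ : C₃) = ∑ i, ⟨f i, hf i⟩ *
          Subalgebra.inclusion hCC₃ ⟨(g i : B), by obtain ⟨a, -, ha⟩ := (g i).2; rw [← ha]; exact a.2⟩ := by
        apply Subtype.ext
        rw [AddSubmonoidClass.coe_finsetSum]
        exact hfg.symm
      rw [hdec]
      refine Ideal.sum_mem _ fun i _ => Ideal.mul_mem_left _ _ ?_
      obtain ⟨a, ha, hga⟩ := (g i).2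
      obtain ⟨n, hn⟩ := hIJ a ha
      refine ⟨n, ?_⟩
      show ((_ : C₃) : B) * m ∈ C₃
      rw [SubmonoidClass.coe_pow]
      show (g i : B) ^ n * m ∈ C₃
      rw [← hga]
      apply hCC₃
      have hn' : ((a ^ n : C) : B) * m ∈ C := hn
      rwa [SubmonoidClass.coe_pow] at hn'
    obtain ⟨M, hM⟩ := hbN
    exact ⟨N * M, by rw [pow_mul]; exact hM⟩
  refine ⟨⟨insert (IsLocalization.Away.invSelf (S := Localization.Away b) b)
    (F₃.image (algebraMap B (Localization.Away b))), top_unique fun z _ => ?_⟩⟩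
  obtain ⟨j, m, hz⟩ := IsLocalization.Away.surj b z
  obtain ⟨M, hM⟩ := key m
  set iv := IsLocalization.Away.invSelf (S := Localization.Away b) b
  set T := Algebra.adjoin k (↑(insert iv (F₃.image (algebraMap B (Localization.Away b)))) : Set (Localization.Away b))
  have hmap : algebraMap B (Localization.Away b) (b ^ M * m) ∈ T := by
    have : (IsScalarTower.toAlgHom k B (Localization.Away b)) (b ^ M * m) ∈
        C₃.map (IsScalarTower.toAlgHom k B (Localization.Away b)) := ⟨_, hM, rfl⟩
    rw [AlgHom.map_adjoin] at this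
    refine Algebra.adjoin_mono ?_ this
    rintro _ ⟨x, hx, rfl⟩
    exact Finset.mem_insert_of_mem (Finset.mem_image_of_mem _ hx)
  have hiv : iv ∈ T := Algebra.subset_adjoin (Finset.mem_insert_self _ _)
  have hmi : algebraMap B (Localization.Away b) b * iv = 1 := IsLocalization.Away.mul_invSelf b
  have : z = algebraMap B (Localization.Away b) (b ^ M * m) * iv ^ (M + j) := by
    rw [map_mul, map_pow, ← hz, pow_add]
    calc z = z * (algebraMap B (Localization.Away b) b * iv) ^ (M + j) := by rw [hmi, one_pow, mul_one]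
      _ = _ := by rw [mul_pow, pow_add, pow_add]; ring
  rw [this]
  exact T.mul_mem hmap (T.pow_mem hiv _)

/-- Finite generation of `(B ⊗ K)_s` over `K` gives the hypothesis of `finiteType_away_of_cover`. -/
theorem exists_generators {R K' : Type u} [CommRing R] [CommRing K'] (i : K' →+* R) (s : R)
    (h : ((algebraMap R (Localization.Away s)).comp i).FiniteType) :
    ∃ G : Finset R, s ∈ G ∧ ∀ z : R, ∃ n : ℕ, s ^ n * z ∈ Subring.closure (Set.range i ∪ G) := by
  classical
  let _ : Algebra K' R := i.toAlgebra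
  rw [show (algebraMap R (Localization.Away s)).comp i = algebraMap K' (Localization.Away s) from
    (IsScalarTower.algebraMap_eq K' R _).symm, RingHom.finiteType_algebraMap] at h
  obtain ⟨S, hS⟩ := h.out
  choose n a ha using fun c : Localization.Away s => IsLocalization.Away.surj s c
  refine ⟨insert s (S.image a), Finset.mem_insert_self _ _, ?_⟩
  set T := Subring.closure (Set.range i ∪ ↑(insert s (S.image a)))
  have hsT : s ∈ T := Subring.subset_closure (Or.inr (Finset.mem_insert_self _ _))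
  let A : Subalgebra K' (Localization.Away s) :=
    { carrier := {c | ∃ (j : ℕ) (r : R), r ∈ T ∧ c * algebraMap _ _ s ^ j = algebraMap _ _ r}
      mul_mem' := by
        rintro x y ⟨j, r, hr, hx⟩ ⟨j', r', hr', hy⟩
        exact ⟨j + j', r * r', T.mul_mem hr hr', by rw [map_mul, ← hx, ← hy, pow_add]; ring⟩
      add_mem' := by
        rintro x y ⟨j, r, hr, hx⟩ ⟨j', r', hr', hy⟩
        refine ⟨j + j', r * s ^ j' + r' * s ^ j, T.add_mem (T.mul_mem hr (T.pow_mem hsT _))
          (T.mul_mem hr' (T.pow_mem hsT _)), ?_⟩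
        rw [map_add, map_mul, map_mul, map_pow, map_pow, ← hx, ← hy, pow_add]; ring
      algebraMap_mem' := fun x => ⟨0, i x, Subring.subset_closure (Or.inl ⟨x, rfl⟩), by rw [pow_zero, mul_one, IsScalarTower.algebraMap_apply K' R (Localization.Away s)]; rfl⟩ }
  have hA : A = ⊤ := top_unique (hS.symm.le.trans (Algebra.adjoin_le fun c hc =>
    ⟨n c, a c, Subring.subset_closure (Or.inr (Finset.mem_insert_of_mem (Finset.mem_image_of_mem a hc))), ha c⟩))
  intro z
  obtain ⟨j, r, hr, hz⟩ := (hA ▸ trivial : algebraMap R (Localization.Away s) z ∈ A)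
  rw [← map_pow, ← map_mul, IsLocalization.eq_iff_exists (Submonoid.powers s)] at hz
  obtain ⟨⟨_, t, rfl⟩, ht⟩ := hz
  refine ⟨t + j, ?_⟩
  rw [show s ^ (t + j) * z = s ^ t * (z * s ^ j) by rw [pow_add]; ring, ht]
  exact T.mul_mem (T.pow_mem hsT _) hr

/-- Finite type lifts along a nilpotent reduction. -/
theorem finiteType_of_quotient {A R : Type u} [CommRing A] [CommRing R] [Algebra A R] (𝔪 : Ideal A)
    (hm : IsNilpotent 𝔪) (h : (Algebra.FiniteType A (R ⧸ 𝔪.map (algebraMap A R)))) :
    Algebra.FiniteType A R := by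
  classical
  obtain ⟨S, hS⟩ := h.out
  choose a ha using Ideal.Quotient.mk_surjective (I := 𝔪.map (algebraMap A R))
  let T := Algebra.adjoin A (↑(S.image a) : Set R)
  refine ⟨⟨S.image a, top_unique fun z _ => ?_⟩⟩
  have hsurj : ∀ z : R, ∃ t ∈ T, z - t ∈ 𝔪.map (algebraMap A R) := by
    intro z
    have hz : Ideal.Quotient.mkₐ A _ z ∈ T.map (Ideal.Quotient.mkₐ A (𝔪.map (algebraMap A R))) := by
      rw [AlgHom.map_adjoin]
      refine Algebra.adjoin_mono ?_ (hS.symm ▸ trivial : _ ∈ Algebra.adjoin A (S : Set _))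
      intro c hc
      exact ⟨a c, Finset.mem_image_of_mem a hc, ha c⟩
    obtain ⟨t, ht, htz⟩ := hz
    exact ⟨t, ht, Ideal.Quotient.eq.1 htz.symm⟩
  have hsm : (⊤ : Submodule A R) ≤ Subalgebra.toSubmodule T ⊔ 𝔪 • ⊤ := by
    rw [Ideal.smul_top_eq_map]
    intro z _
    obtain ⟨t, ht, htz⟩ := hsurj z
    exact Submodule.mem_sup.2 ⟨t, ht, z - t, htz, by ring⟩
  obtain ⟨n, hn⟩ := hm
  have : ∀ j, (⊤ : Submodule A R) ≤ Subalgebra.toSubmodule T ⊔ 𝔪 ^ j • ⊤ := by
    intro j
    induction j with
    | zero => rw [pow_zero, Ideal.one_eq_top, Submodule.top_smul]; exact le_sup_right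
    | succ j ih =>
      refine ih.trans (sup_le le_sup_left ?_)
      calc 𝔪 ^ j • (⊤ : Submodule A R) ≤ 𝔪 ^ j • (Subalgebra.toSubmodule T ⊔ 𝔪 • ⊤) :=
            smul_mono_right _ hsm
        _ ≤ _ := by
          rw [Submodule.smul_sup, ← Submodule.mul_smul, ← pow_succ]
          exact sup_le_sup Submodule.smul_le_right le_rfl
  have := this n (Submodule.mem_top (x := z))
  rwa [hn, Ideal.zero_eq_bot, Submodule.bot_smul, sup_bot_eq] at this

end Groth.Agent.H7LftDesc
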