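import Groth.Agent.H7LftDesc.Ring
import Groth.Agent.H19Grp.PointPreds

/-!
# Being locally of finite type near a point descends over an artinian base
-/

set_option autoImplicit false
set_option linter.style.haveILetI false
set_option backward.isDefEq.respectTransparency false

universe u

open CategoryTheory CategoryTheory.Limits AlgebraicGeometry TensorProduct TopologicalSpace

namespace Groth.Agent.H7LftDesc

theorem lft_nhd_field {k : Type u} [Field k] {X Y' P : Scheme.{u}} {g' : P ⟶ X} {f' : P ⟶ Y'}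
    {f : X ⟶ Spec (.of k)} {g : Y' ⟶ Spec (.of k)} (h : IsPullback g' f' f g) (z : P) (U' : P.Opens)
    (hz : z ∈ U') [LocallyOfFiniteType (U'.ι ≫ f')] :
    ∃ U : X.Opens, g' z ∈ U ∧ LocallyOfFiniteType (U.ι ≫ f) := by
  obtain ⟨_, ⟨D, hD, rfl⟩, hzD, -⟩ :=
    X.isBasis_affineOpens.exists_subset_of_mem_open (Set.mem_univ (g' z)) isOpen_univ
  obtain ⟨_, ⟨E, hE, rfl⟩, hzE, -⟩ :=
    Y'.isBasis_affineOpens.exists_subset_of_mem_open (Set.mem_univ (f' z)) isOpen_univ
  replace hD : IsAffineOpen D := hD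
  replace hE : IsAffineOpen E := hE
  let B := Γ(X, D)
  let A' := Γ(Y', E)
  obtain ⟨φ, hφ⟩ := Spec.map_surjective (hD.fromSpec ≫ f)
  obtain ⟨ψ, hψ⟩ := Spec.map_surjective (hE.fromSpec ≫ g)
  letI : Algebra k B := φ.hom.toAlgebra
  letI : Algebra k A' := ψ.hom.toAlgebra
  replace hφ : Spec.map (CommRingCat.ofHom (algebraMap k B)) = hD.fromSpec ≫ f := hφ
  replace hψ : Spec.map (CommRingCat.ofHom (algebraMap k A')) = hE.fromSpec ≫ g := hψ
  let m₁ : pullback (Spec.map (CommRingCat.ofHom (algebraMap k B))) (Spec.map (CommRingCat.ofHom (algebraMap k A')))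
      ⟶ pullback f g :=
    pullback.map _ _ f g hD.fromSpec hE.fromSpec (𝟙 _) (by simp [hφ]) (by simp [hψ])
  let Ψ : Spec (.of (B ⊗[k] A')) ⟶ P := (pullbackSpecIso k B A').inv ≫ m₁ ≫ h.isoPullback.inv
  have hΨ₁ : Ψ ≫ g' = Spec.map (CommRingCat.ofHom (algebraMap B (B ⊗[k] A'))) ≫ hD.fromSpec := by
    simp [Ψ, m₁]
    rfl
  have hΨ₂ : Ψ ≫ f' = Spec.map (CommRingCat.ofHom
      (Algebra.TensorProduct.includeRight : A' →ₐ[k] B ⊗[k] A').toRingHom) ≫ hE.fromSpec := by
    simp [Ψ, m₁]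
  have hm₁ : h.isoPullback.hom z ∈ Set.range m₁ := by
    rw [Scheme.Pullback.range_map]
    refine ⟨hD.range_fromSpec.ge ?_, hE.range_fromSpec.ge ?_⟩
    · rw [← Scheme.Hom.comp_apply, h.isoPullback_hom_fst]; exact hzD
    · rw [← Scheme.Hom.comp_apply, h.isoPullback_hom_snd]; exact hzE
  obtain ⟨z₁, hz₁⟩ := hm₁
  let z₃ : ↥(Spec (.of (B ⊗[k] A'))) := (pullbackSpecIso k B A').hom z₁
  have hz₃ : Ψ z₃ = z := by
    show ((pullbackSpecIso k B A').hom ≫ Ψ) z₁ = z
    rw [show (pullbackSpecIso k B A').hom ≫ Ψ = m₁ ≫ h.isoPullback.inv from Iso.hom_inv_id_assoc _ _,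
      Scheme.Hom.comp_apply, hz₁, ← Scheme.Hom.comp_apply, Iso.hom_inv_id]
    rfl
  haveI : IsOpenImmersion m₁ := inferInstance
  haveI : IsOpenImmersion Ψ := inferInstance
  obtain ⟨_, ⟨s, rfl⟩, hzs, hsU⟩ := PrimeSpectrum.isTopologicalBasis_basic_opens.exists_subset_of_mem_open
    (show z₃ ∈ Ψ ⁻¹' (U' : Set P) by show Ψ z₃ ∈ U'; rw [hz₃]; exact hz) (U'.2.preimage Ψ.continuous)
  let a : Spec (.of (Localization.Away s)) ⟶ Spec (.of (B ⊗[k] A')) :=
    Spec.map (CommRingCat.ofHom (algebraMap (B ⊗[k] A') (Localization.Away s)))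
  let ℓ : Spec (.of (Localization.Away s)) ⟶ U'.toScheme := IsOpenImmersion.lift U'.ι (a ≫ Ψ) (by
    rintro _ ⟨w, rfl⟩
    refine U'.range_ι.ge (hsU ?_)
    have : a w ∈ Set.range a := ⟨w, rfl⟩
    rwa [show Set.range a = (PrimeSpectrum.basicOpen s : Set (PrimeSpectrum (B ⊗[k] A'))) from
      PrimeSpectrum.localization_away_comap_range (Localization.Away s) s] at this)
  have hℓ : ℓ ≫ U'.ι = a ≫ Ψ := IsOpenImmersion.lift_fac _ _ _
  haveI : IsOpenImmersion (ℓ ≫ U'.ι) := by rw [hℓ]; infer_instance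
  haveI : IsOpenImmersion ℓ := IsOpenImmersion.of_comp ℓ U'.ι
  have hft : ((algebraMap (B ⊗[k] A') (Localization.Away s)).comp
      (Algebra.TensorProduct.includeRight : A' →ₐ[k] B ⊗[k] A').toRingHom).FiniteType := by
    have h1 : LocallyOfFiniteType (ℓ ≫ U'.ι ≫ f') := inferInstance
    rw [reassoc_of% hℓ, hΨ₂, ← Category.assoc] at h1
    haveI := h1
    have h2 := locallyOfFiniteType_of_comp (a ≫ Spec.map (CommRingCat.ofHom
      (Algebra.TensorProduct.includeRight : A' →ₐ[k] B ⊗[k] A').toRingHom)) hE.fromSpec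
    rw [← Spec.map_comp, ← CommRingCat.ofHom_comp, HasRingHomProperty.Spec_iff (P := @LocallyOfFiniteType)] at h2
    exact h2
  obtain ⟨G, hsG, hG⟩ := exists_generators _ s hft
  have hO := PrimeSpectrum.isOpenMap_comap_algebraMap_tensorProduct_of_field (K := k) (A := B) (B := A') _
    (PrimeSpectrum.basicOpen s).isOpen
  let q₃ : PrimeSpectrum B := PrimeSpectrum.comap (algebraMap B (B ⊗[k] A')) z₃
  obtain ⟨_, ⟨b, rfl⟩, hqb, hbO⟩ := PrimeSpectrum.isTopologicalBasis_basic_opens.exists_subset_of_mem_open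
    (show q₃ ∈ PrimeSpectrum.comap (algebraMap B (B ⊗[k] A')) '' (PrimeSpectrum.basicOpen s : Set _) from
      ⟨z₃, hzs, rfl⟩) hO
  have hB : Algebra.FiniteType k (Localization.Away b) := finiteType_away_of_cover s b G hsG hG
    (fun q hq => by obtain ⟨P', hP', e⟩ := hbO hq; exact ⟨P', hP', e⟩)
  let j : Spec (.of (Localization.Away b)) ⟶ X :=
    Spec.map (CommRingCat.ofHom (algebraMap B (Localization.Away b))) ≫ hD.fromSpec
  haveI : IsOpenImmersion (Spec.map (CommRingCat.ofHom (algebraMap B (Localization.Away b)))) :=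
    IsOpenImmersion.of_isLocalization b
  haveI hj : IsOpenImmersion j := inferInstance
  refine ⟨j.opensRange, ?_, ?_⟩
  · have hq : q₃ ∈ Set.range (PrimeSpectrum.comap (algebraMap B (Localization.Away b))) := by
      exact (PrimeSpectrum.localization_away_comap_range (Localization.Away b) b).ge hqb
    obtain ⟨w, hw⟩ := hq
    refine ⟨w, ?_⟩
    show hD.fromSpec (Spec.map (CommRingCat.ofHom (algebraMap B (Localization.Away b))) w) = g' z
    rw [show Spec.map (CommRingCat.ofHom (algebraMap B (Localization.Away b))) w = q₃ from hw, ← hz₃,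
      ← Scheme.Hom.comp_apply, hΨ₁]
    rfl
  · rw [← Scheme.Hom.isoOpensRange_inv_comp, Category.assoc]
    have : j ≫ f = Spec.map (CommRingCat.ofHom (algebraMap k (Localization.Away b))) := by
      simp only [j, Category.assoc, ← hφ, ← Spec.map_comp, ← CommRingCat.ofHom_comp]
      rfl
    rw [this]
    haveI : LocallyOfFiniteType (Spec.map (CommRingCat.ofHom (algebraMap k (Localization.Away b)))) := by
      rw [HasRingHomProperty.Spec_iff (P := @LocallyOfFiniteType)]
      exact RingHom.finiteType_algebraMap.2 hB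
    infer_instance

theorem lft_nhd_artinian {A : Type u} [CommRing A] [IsArtinianRing A] [IsLocalRing A] {X Y' P : Scheme.{u}}
    {g' : P ⟶ X} {f' : P ⟶ Y'}
    {f : X ⟶ Spec (.of A)} {g : Y' ⟶ Spec (.of A)} (h : IsPullback g' f' f g) (z : P) (U' : P.Opens)
    (hz : z ∈ U') [LocallyOfFiniteType (U'.ι ≫ f')] :
    ∃ U : X.Opens, g' z ∈ U ∧ LocallyOfFiniteType (U.ι ≫ f) := by
  let κ := A ⧸ IsLocalRing.maximalIdeal A
  letI : Field κ := Ideal.Quotient.field _
  let c : Spec (.of κ) ⟶ Spec (.of A) := Spec.map (CommRingCat.ofHom (algebraMap A κ))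
  haveI : IsClosedImmersion c := IsClosedImmersion.spec_of_surjective _ Ideal.Quotient.mk_surjective
  haveI : Surjective c := ⟨fun p => ⟨default, Subsingleton.elim (α := PrimeSpectrum A) _ _⟩⟩
  let cX := pullback.fst f c
  let c' := pullback.snd cX g'
  let f0 : pullback cX g' ⟶ pullback g c :=
    pullback.lift (c' ≫ f') (pullback.fst cX g' ≫ pullback.snd f c) (by
      simp only [c', cX, Category.assoc, ← h.w, ← pullback.condition]
      rw [← pullback.condition_assoc, pullback.condition])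
  have sq1 : IsPullback (pullback.fst cX g') (c' ≫ f') (cX ≫ f) g :=
    (IsPullback.of_hasPullback cX g').paste_vert h |>.flip.flip
  have sq : IsPullback (pullback.fst cX g') f0 (pullback.snd f c) (pullback.snd g c) := by
    refine IsPullback.of_bot (h₃₁ := g) (v₂₁ := pullback.fst g c) (v₂₂ := c) ?_ ?_
      (IsPullback.of_hasPullback g c).flip
    · rw [pullback.lift_fst, ← pullback.condition]; exact sq1
    · rw [pullback.lift_snd]
  haveI : Surjective c' := inferInstance
  obtain ⟨z0, hz0⟩ := c'.surjective z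
  haveI : LocallyOfFiniteType ((c' ⁻¹ᵁ U').ι ≫ f0 ≫ pullback.fst g c) := by
    rw [pullback.lift_fst, ← morphismRestrict_ι_assoc]
    haveI : LocallyOfFiniteType (c' ∣_ U') := MorphismProperty.of_isPullback
      (isPullback_morphismRestrict c' U').flip (show LocallyOfFiniteType c' by infer_instance)
    infer_instance
  haveI : LocallyOfFiniteType (((c' ⁻¹ᵁ U').ι ≫ f0) ≫ pullback.fst g c) := by rw [Category.assoc]; infer_instance
  haveI : LocallyOfFiniteType ((c' ⁻¹ᵁ U').ι ≫ f0) := locallyOfFiniteType_of_comp _ (pullback.fst g c)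
  obtain ⟨U0, hx0, hU0⟩ := lft_nhd_field sq z0 (c' ⁻¹ᵁ U') (by show c' z0 ∈ U'; rw [hz0]; exact hz)
  have hgz : cX (pullback.fst cX g' z0) = g' z := by
    rw [← hz0, ← Scheme.Hom.comp_apply, pullback.condition]; rfl
  haveI : IsClosedImmersion cX := inferInstance
  obtain ⟨O, hOo, hOU⟩ := (IsClosedImmersion.isClosedEmbedding cX).isInducing.isOpen_iff.1 U0.2
  have hgO : g' z ∈ O := by rw [← hgz]; exact hOU.ge hx0
  obtain ⟨_, ⟨D, hD, rfl⟩, hzD, hDO⟩ := X.isBasis_affineOpens.exists_subset_of_mem_open hgO hOo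
  replace hD : IsAffineOpen D := hD
  let B := Γ(X, D)
  obtain ⟨φ, hφ⟩ := Spec.map_surjective (hD.fromSpec ≫ f)
  letI : Algebra A B := φ.hom.toAlgebra
  replace hφ : Spec.map (CommRingCat.ofHom (algebraMap A B)) = hD.fromSpec ≫ f := hφ
  let i : pullback (Spec.map (CommRingCat.ofHom (algebraMap A B))) (Spec.map (CommRingCat.ofHom (algebraMap A κ)))
      ⟶ pullback f c :=
    pullback.map _ _ f c hD.fromSpec (𝟙 _) (𝟙 _) (by simp [hφ]) (by simp [c])
  let ℓ := IsOpenImmersion.lift U0.ι i (by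
    rintro _ ⟨w, rfl⟩
    refine U0.range_ι.ge (hOU.le ?_)
    show cX (i w) ∈ O
    refine hDO ?_
    rw [← Scheme.Hom.comp_apply, show i ≫ cX = pullback.fst _ _ ≫ hD.fromSpec from pullback.lift_fst _ _ _,
      Scheme.Hom.comp_apply]
    exact hD.range_fromSpec.le ⟨_, rfl⟩)
  haveI : IsOpenImmersion i := inferInstance
  haveI : IsOpenImmersion (ℓ ≫ U0.ι) := by rw [IsOpenImmersion.lift_fac]; infer_instance
  haveI : IsOpenImmersion ℓ := IsOpenImmersion.of_comp ℓ U0.ι
  have h3 : LocallyOfFiniteType (((pullbackSpecIso A B κ).inv ≫ ℓ ≫ U0.ι ≫ pullback.snd f c) ≫ c) := inferInstance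
  rw [IsOpenImmersion.lift_fac_assoc, show i ≫ pullback.snd f c = pullback.snd _ _ ≫ 𝟙 _ from
    pullback.lift_snd _ _ _, Category.comp_id, pullbackSpecIso_inv_snd, ← Spec.map_comp, ← CommRingCat.ofHom_comp,
    HasRingHomProperty.Spec_iff (P := @LocallyOfFiniteType)] at h3
  haveI hBκ : Algebra.FiniteType A (B ⊗[A] κ) := by
    rw [← RingHom.finiteType_algebraMap]
    have e : ((Algebra.TensorProduct.includeRight : κ →ₐ[A] B ⊗[A] κ).toRingHom.comp (algebraMap A κ)) =
        algebraMap A (B ⊗[A] κ) :=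
      RingHom.ext fun x => (Algebra.TensorProduct.includeRight : κ →ₐ[A] B ⊗[A] κ).commutes x
    rw [← e]
    exact h3
  have hB : Algebra.FiniteType A B := finiteType_of_quotient (IsLocalRing.maximalIdeal A)
    (IsLocalRing.jacobson_eq_maximalIdeal (⊥ : Ideal A) bot_ne_top ▸ IsArtinianRing.isNilpotent_jacobson_bot)
    (Algebra.FiniteType.equiv hBκ
      ((Algebra.TensorProduct.quotIdealMapEquivTensorQuot B (IsLocalRing.maximalIdeal A)).symm.restrictScalars A))
  refine ⟨hD.fromSpec.opensRange, by rw [hD.opensRange_fromSpec]; exact hzD, ?_⟩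
  rw [← Scheme.Hom.isoOpensRange_inv_comp, Category.assoc, ← hφ]
  haveI : LocallyOfFiniteType (Spec.map (CommRingCat.ofHom (algebraMap A B))) := by
    rw [HasRingHomProperty.Spec_iff (P := @LocallyOfFiniteType)]
    exact RingHom.finiteType_algebraMap.2 hB
  infer_instance

end Groth.Agent.H7LftDesc
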